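import Groth.Agent.AlgSpLib.StalkSupport
import Groth.Prelude.Def_AlgSpDec

/-!
# Global functions on integral algebraic spaces
-/

set_option autoImplicit false
set_option backward.isDefEq.respectTransparency false
universe u

open CategoryTheory CategoryTheory.Limits AlgebraicGeometry Opposite

noncomputable section

namespace Groth.Agent.GsectLib

open _root_.AlgSp Groth.Agent.AlgSpLib

variable {S : Scheme.{u}} {X : Sp S}

/-- the value of a global function on a chart -/
def sec (s : ↥(gsectEt (OEt X))) (E : EtOver X) : Γ(E.obj.left.left, ⊤) := (limit.π (OEt X).obj (op E) s).down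

theorem sec_map (s : ↥(gsectEt (OEt X))) {E E' : EtOver X} (g : E ⟶ E') :
    g.hom.left.left.appTop (sec s E') = sec s E :=
  congrArg ULift.down (ConcreteCategory.congr_hom (limit.w (OEt X).obj g.op) s)

/-- the non vanishing locus of a global function -/
def locus (s : ↥(gsectEt (OEt X))) : Set (Points X) :=
  ⋃ E : EtOver X, Points.ofPt E.obj.hom '' (E.obj.left.left.basicOpen (sec s E) : Set _)

theorem isOpen_locus (s : ↥(gsectEt (OEt X))) : IsOpen (locus s) :=
  isOpen_iUnion fun E => isOpenMap_ofPt (repWith_universallyOpen_of_etale E.property) _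
    (E.obj.left.left.basicOpen (sec s E)).2

theorem mem_basicOpen_of_ofPt_mem (hX : IsAlgSpace X) (s : ↥(gsectEt (OEt X))) (E : EtOver X)
    (u : E.obj.left.left) (h : Points.ofPt E.obj.hom u ∈ locus s) : u ∈ E.obj.left.left.basicOpen (sec s E) := by
  obtain ⟨E', u', hu', e⟩ := Set.mem_iUnion.1 h
  obtain ⟨R, p, q, sq⟩ := exists_pullback hX.diag E'.obj.hom E.obj.hom
  obtain ⟨w, rfl, rfl⟩ := (ofPt_eq_iff sq u' u).1 e
  let EW : EtOver X := EtOver.mk ((yon S).map q ≫ E.obj.hom)
    (repWith_comp (repWith_baseChange sq E'.property) E.property)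
  let m' : EW ⟶ E' := EtOver.homMk p sq.w
  let m : EW ⟶ E := EtOver.homMk q rfl
  have h1 : w ∈ EW.obj.left.left.basicOpen (sec s EW) := by
    rw [← sec_map s m']
    exact (Scheme.preimage_basicOpen_top m'.hom.left.left (sec s E')).le hu'
  rw [← sec_map s m] at h1
  exact (Scheme.preimage_basicOpen_top m.hom.left.left (sec s E)).ge h1

theorem eq_zero_of_locus_empty (hX : IsAlgSpace X) (hr : IsReducedSp X) {s : ↥(gsectEt (OEt X))}
    (h : locus s = ∅) : s = 0 := by
  refine (StalkPoint.isReduced_gsect hX hr).2 s fun E => ?_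
  refine le_bot_iff.1 fun u hu => ?_
  exact (Set.eq_empty_iff_forall_notMem.1 h) _ (Set.mem_iUnion.2 ⟨E, u, hu, rfl⟩)

theorem disjoint_locus_of_mul_eq_zero (hX : IsAlgSpace X) {s t : ↥(gsectEt (OEt X))} (h : s * t = 0) :
    locus s ∩ locus t = ∅ := by
  refine Set.eq_empty_iff_forall_notMem.2 fun x ⟨hs, ht⟩ => ?_
  obtain ⟨E, u, hu, rfl⟩ := Set.mem_iUnion.1 hs
  have h2 := mem_basicOpen_of_ofPt_mem hX t E u ht
  have h0 : sec s E * sec t E = 0 :=
    congrArg ULift.down ((map_mul (limit.π (OEt X).obj (op E)).hom s t).symm.trans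
      ((congrArg _ h).trans (map_zero _)))
  have : u ∈ E.obj.left.left.basicOpen (sec s E * sec t E) := by
    rw [Scheme.basicOpen_mul]; exact ⟨hu, h2⟩
  rw [h0, Scheme.basicOpen_zero] at this
  exact this

/-- the ring of global functions of an integral space is a domain -/
theorem isDomain_gsect (hX : IsAlgSpace X) (hr : IsReducedSp X) [IrreducibleSpace (Points X)] :
    IsDomain ↥(gsectEt (OEt X)) := by
  haveI : Nontrivial ↥(gsectEt (OEt X)) := by
    refine ⟨0, 1, fun h => ?_⟩
    obtain ⟨U, a, u, ha, -⟩ := StalkPoint.exists_chart_at hX (Classical.arbitrary (Points X))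
    have h01 : (0 : Γ(U.left, ⊤)) = 1 := congrArg ULift.down
      ((map_zero (limit.π (OEt X).obj (op (EtOver.mk a ha))).hom).symm.trans
        ((congrArg _ h).trans (map_one _)))
    have : (U.left.basicOpen (0 : Γ(U.left, ⊤))) = U.left.basicOpen (1 : Γ(U.left, ⊤)) := by rw [h01]
    rw [Scheme.basicOpen_zero, Scheme.basicOpen_of_isUnit _ isUnit_one] at this
    exact (this.ge (show u ∈ (⊤ : U.left.Opens) from trivial) : u ∈ (⊥ : U.left.Opens))
  haveI : NoZeroDivisors ↥(gsectEt (OEt X)) := ⟨fun {s t} h => by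
    by_contra hst
    push_neg at hst
    have hs : (locus s).Nonempty := Set.nonempty_iff_ne_empty.2 fun e => hst.1 (eq_zero_of_locus_empty hX hr e)
    have ht : (locus t).Nonempty := Set.nonempty_iff_ne_empty.2 fun e => hst.2 (eq_zero_of_locus_empty hX hr e)
    have := nonempty_preirreducible_inter (isOpen_locus s) (isOpen_locus t) hs ht
    rw [disjoint_locus_of_mul_eq_zero hX h] at this
    exact Set.not_nonempty_empty this⟩
  exact NoZeroDivisors.to_isDomain _

end Groth.Agent.GsectLib

end
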