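import Groth.Agent.GsectLib.Domain
import Groth.Agent.EtaleLocalProps.Basic
import Groth.Agent.SpQS.DenseCrit
import Groth.Agent.SpQS.DecentProps
import Groth.Agent.NormSect.Basic
import Groth.Agent.CompLib.Basic
import Mathlib.RingTheory.Polynomial.ScaleRoots

/-!
# Normal integral algebraic spaces: integral affine charts and global functions
-/

set_option autoImplicit false
set_option backward.isDefEq.respectTransparency false
universe u v

open CategoryTheory CategoryTheory.Limits AlgebraicGeometry Opposite TopologicalSpace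

noncomputable section

namespace Groth.Agent.GsectLib

open _root_.AlgSp Groth.Agent.AlgSpLib

section Scheme

variable {X : Scheme.{u}}

theorem eq_of_mul_eq {g : Γ(X, ⊤)} [∀ x : X, IsDomain (X.presheaf.stalk x)]
    (hg : ∀ x : X, X.presheaf.germ ⊤ x trivial g ≠ 0) {U : X.Opens} {a b : Γ(X, U)}
    (h : a * X.presheaf.map (homOfLE le_top).op g = b * X.presheaf.map (homOfLE le_top).op g) : a = b := by
  refine TopCat.Presheaf.section_ext X.sheaf U a b fun x hx => ?_
  show X.presheaf.germ U x hx a = X.presheaf.germ U x hx b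
  have h' := congrArg (X.presheaf.germ U x hx) h
  rw [map_mul, map_mul, X.presheaf.germ_res_apply] at h'
  exact mul_right_cancel₀ (hg x) h'

theorem existsUnique_div {f g : Γ(X, ⊤)} [∀ x : X, IsDomain (X.presheaf.stalk x)]
    (hg : ∀ x : X, X.presheaf.germ ⊤ x trivial g ≠ 0)
    (hf : ∀ x : X, ∃ h, X.presheaf.germ ⊤ x trivial f = h * X.presheaf.germ ⊤ x trivial g) :
    ∃! h, f = h * g := by
  have hloc : ∀ x : X, ∃ (V : X.Opens) (_ : x ∈ V) (s : Γ(X, V)),
      X.presheaf.map (homOfLE le_top).op f = s * X.presheaf.map (homOfLE le_top).op g := by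
    intro x
    obtain ⟨t, ht⟩ := hf x
    obtain ⟨V, hxV, s, rfl⟩ := X.presheaf.germ_exist t
    have e : X.presheaf.germ V x hxV (X.presheaf.map (homOfLE le_top).op f) =
        X.presheaf.germ V x hxV (s * X.presheaf.map (homOfLE le_top).op g) := by
      rw [map_mul, X.presheaf.germ_res_apply, X.presheaf.germ_res_apply]
      exact ht
    obtain ⟨W, hxW, i₁, i₂, hW⟩ := X.presheaf.germ_eq x hxV hxV _ _ e
    refine ⟨W, hxW, X.presheaf.map i₁.op s, ?_⟩
    rw [Subsingleton.elim i₂ i₁, map_mul] at hW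
    have eres : ∀ t : Γ(X, ⊤), X.presheaf.map i₁.op (X.presheaf.map (homOfLE (le_top : V ≤ ⊤)).op t) =
        X.presheaf.map (homOfLE (le_top : W ≤ ⊤)).op t := fun t => by
      rw [← CommRingCat.comp_apply, ← Functor.map_comp]; rfl
    rw [eres, eres] at hW
    exact hW
  choose V hV s hs using hloc
  have hcompat : TopCat.Presheaf.IsCompatible X.presheaf V s := by
    intro i j
    refine eq_of_mul_eq hg ?_
    have hi := congrArg (X.presheaf.map (homOfLE (inf_le_left : V i ⊓ V j ≤ V i)).op) (hs i)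
    have hj := congrArg (X.presheaf.map (homOfLE (inf_le_right : V i ⊓ V j ≤ V j)).op) (hs j)
    simp only [map_mul, ← CommRingCat.comp_apply, ← Functor.map_comp] at hi hj
    exact hi.symm.trans hj
  obtain ⟨h₀, hh₀, -⟩ := X.sheaf.existsUnique_gluing' V ⊤ (fun i => homOfLE le_top)
    (fun x _ => Opens.mem_iSup.2 ⟨x, hV x⟩) s hcompat
  let h : Γ(X, ⊤) := h₀
  have hh : ∀ i, X.presheaf.map (homOfLE le_top).op h = s i := hh₀
  have hh' : f = h * g := X.sheaf.eq_of_locally_eq' V ⊤ (fun i => homOfLE le_top)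
    (fun x _ => Opens.mem_iSup.2 ⟨x, hV x⟩) f (h * g : Γ(X, ⊤)) fun i => by
      show X.presheaf.map _ f = X.presheaf.map _ (h * g)
      rw [map_mul]
      exact (hs i).trans (congrArg (· * _) (hh i).symm)
  refine ⟨h, hh', fun h' e => eq_of_mul_eq hg ?_⟩
  simp only [homOfLE_refl, op_id, CategoryTheory.Functor.map_id]
  exact e.symm.trans hh'

end Scheme

theorem exists_div_of_root {A : Type v} {R : Type u} [CommRing A] [CommRing R] [IsDomain R]
    [IsIntegrallyClosed R] (φ : A →+* R) {f g : A} {P : Polynomial A} (hP : P.Monic)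
    (h0 : (P.scaleRoots g).eval f = 0) (hg : φ g ≠ 0) : ∃ h, φ f = h * φ g := by
  let K := FractionRing R
  let ψ : A →+* K := (algebraMap R K).comp φ
  have hg' : ψ g ≠ 0 := fun e => hg (IsFractionRing.injective R K (e.trans (map_zero _).symm))
  have h1 := congrArg ψ h0
  rw [← Polynomial.eval₂_at_apply, map_zero,
    show ψ f = ψ g * (ψ f / ψ g) by rw [mul_div_cancel₀ _ hg'], Polynomial.scaleRoots_eval₂_mul] at h1
  have h2 : P.eval₂ ψ (ψ f / ψ g) = 0 := (mul_eq_zero.1 h1).resolve_left (pow_ne_zero _ hg')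
  have hint : IsIntegral R (ψ f / ψ g) :=
    ⟨P.map φ, hP.map _, by rw [Polynomial.eval₂_map]; exact h2⟩
  obtain ⟨h, hh⟩ := IsIntegrallyClosed.isIntegral_iff.1 hint
  refine ⟨h, IsFractionRing.injective R K ?_⟩
  rw [map_mul, hh]
  exact (div_mul_cancel₀ _ hg').symm

variable {S : Scheme.{u}} {X : Sp S}

/-- normality of a space at all points of all charts -/
theorem normal_chart (hX : IsAlgSpace X) (hn : EtaleLocally (fun U => ∀ u : ↥U,
      IsDomain ↥(U.presheaf.stalk u) ∧ IsIntegrallyClosed ↥(U.presheaf.stalk u)) X)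
    {U : Over S} {a : (yon S).obj U ⟶ X} (ha : RepWith @Etale a) (u : U.left) :
    IsDomain ↥(U.left.presheaf.stalk u) ∧ IsIntegrallyClosed ↥(U.left.presheaf.stalk u) := by
  obtain ⟨U₀, p, hpe, hps, h⟩ := hn
  obtain ⟨R, r, q, sq⟩ := exists_pullback hX.diag a p
  have : Etale q.left := (repWith_yon_iff q).1 (repWith_baseChange sq ha)
  have : Etale r.left := (repWith_yon_iff r).1 (repWith_baseChange sq.flip hpe)
  have : Surjective r.left := (repWith_yon_iff r).1 (repWith_baseChange sq.flip hps)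
  obtain ⟨w, rfl⟩ := r.left.surjective u
  exact (EtaleLocalProps.isNormal_stalk_iff r.left w).1
    ((EtaleLocalProps.isNormal_stalk_iff q.left w).2 (h _))

theorem exists_gsect (x : ∀ E : EtOver X, Γ(E.obj.left.left, ⊤))
    (hx : ∀ {E E' : EtOver X} (m : E ⟶ E'), m.hom.left.left.appTop (x E') = x E) :
    ∃ s : ↥(gsectEt (OEt X)), ∀ E, sec s E = x E := by
  let F := (OEt X).obj
  let σ : (F ⋙ forget CommRingCat.{u + 1}).sections :=
    ⟨fun E => ULift.up (x E.unop), fun {E E'} m => ULift.ext _ _ (hx m.unop)⟩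
  refine ⟨(preservesLimitIso (forget CommRingCat.{u + 1}) F).inv ((Types.limitEquivSections _).symm σ), fun E => ?_⟩
  unfold sec
  have h1 := ConcreteCategory.congr_hom (preservesLimitIso_inv_π (forget CommRingCat.{u + 1}) F (op E))
    ((Types.limitEquivSections _).symm σ)
  have h2 := Types.limitEquivSections_symm_apply (F ⋙ forget CommRingCat.{u + 1}) σ (op E)
  exact congrArg ULift.down (h1.trans h2)

/-- the ring of global functions of a normal integral space is normal -/
theorem isIntegrallyClosed_gsect (hX : IsAlgSpace X) (hr : IsReducedSp X) [IrreducibleSpace (Points X)]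
    (hn : EtaleLocally (fun U => ∀ u : ↥U,
      IsDomain ↥(U.presheaf.stalk u) ∧ IsIntegrallyClosed ↥(U.presheaf.stalk u)) X) :
    IsIntegrallyClosed ↥(gsectEt (OEt X)) := by
  let A := ↥(gsectEt (OEt X))
  haveI : IsDomain A := isDomain_gsect hX hr
  refine (isIntegrallyClosed_iff (FractionRing A)).2 fun {a} ha => ?_
  obtain ⟨f, g, hg0, rfl⟩ := IsFractionRing.div_surjective (A := A) a
  obtain ⟨P, hP, h0⟩ := ha
  have hg : g ≠ 0 := nonZeroDivisors.ne_zero hg0
  have hg' : algebraMap A (FractionRing A) g ≠ 0 := fun e =>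
    hg (IsFractionRing.injective A (FractionRing A) (e.trans (map_zero _).symm))
  have hroot : (P.scaleRoots g).eval f = 0 := by
    refine IsFractionRing.injective A (FractionRing A) ?_
    rw [map_zero, ← Polynomial.eval₂_at_apply,
      show algebraMap A _ f = algebraMap A _ g * (algebraMap A (FractionRing A) f / algebraMap A _ g) by
        rw [mul_div_cancel₀ _ hg'],
      Polynomial.scaleRoots_eval₂_mul, h0, mul_zero]
  have hloc : Dense (locus g) := (isOpen_locus g).dense (Set.nonempty_iff_ne_empty.2 fun e =>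
    hg (eq_zero_of_locus_empty hX hr e))
  have hgerm : ∀ (E : EtOver X) (u : E.obj.left.left),
      E.obj.left.left.presheaf.germ ⊤ u trivial (sec g E) ≠ 0 := by
    intro E u e
    obtain ⟨W, hW, i, i', hWe⟩ := E.obj.left.left.presheaf.germ_eq (U := ⊤) (V := ⊤) u trivial trivial _ _
      (e.trans (map_zero (E.obj.left.left.presheaf.germ ⊤ u trivial).hom).symm)
    obtain ⟨_, ⟨v, hv, rfl⟩, hvg⟩ := hloc.inter_open_nonempty _
      (isOpenMap_ofPt (repWith_universallyOpen_of_etale E.property) _ W.2) ⟨_, u, hW, rfl⟩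
    have h1 := mem_basicOpen_of_ofPt_mem hX g E v hvg
    rw [Scheme.mem_basicOpen'' _ _ v] at h1
    obtain ⟨_, h1⟩ := h1
    have h2 := congrArg (E.obj.left.left.presheaf.germ W v hv) hWe
    rw [Subsingleton.elim i' i, E.obj.left.left.presheaf.germ_res_apply, E.obj.left.left.presheaf.germ_res_apply] at h2
    rw [h2, map_zero] at h1
    exact not_isUnit_zero h1
  haveI hdom : ∀ (E : EtOver X) (u : E.obj.left.left), IsDomain (E.obj.left.left.presheaf.stalk u) :=
    fun E u => (normal_chart hX hn E.property u).1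
  have hdiv : ∀ E : EtOver X, ∃! h, sec f E = h * sec g E := fun E => by
    haveI := hdom E
    refine existsUnique_div (hgerm E) fun u => ?_
    haveI := (normal_chart hX hn E.property u).2
    exact exists_div_of_root (R := E.obj.left.left.presheaf.stalk u) (g := g) (f := f)
      ((E.obj.left.left.presheaf.germ ⊤ u trivial).hom.comp
      ((ULift.ringEquiv : ULift.{u + 1} Γ(E.obj.left.left, ⊤) ≃+* Γ(E.obj.left.left, ⊤)).toRingHom.comp
        (limit.π (OEt X).obj (op E)).hom)) hP hroot (hgerm E u)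
  choose x hx hxu using hdiv
  obtain ⟨s, hs⟩ := exists_gsect x fun {E E'} m => hxu E _ (by
    show sec f E = _ * sec g E
    rw [← sec_map g m, ← map_mul, ← sec_map f m]
    exact congrArg _ (hx E'))
  refine ⟨s, ?_⟩
  rw [eq_div_iff hg', ← map_mul]
  congr 1
  exact AlgSpLib.StalkPoint.gsect_ext fun E => ULift.ext _ _ (by
    rw [map_mul]
    show sec s E * sec g E = sec f E
    rw [hs]
    exact (hx E).symm)

/-- charts of normal integral decent spaces are locally integral -/
theorem exists_integral_chart (hX : IsAlgSpace X) (hd : IsDecent X) [IrreducibleSpace (Points X)]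
    (hn : EtaleLocally (fun U => ∀ u : ↥U,
      IsDomain ↥(U.presheaf.stalk u) ∧ IsIntegrallyClosed ↥(U.presheaf.stalk u)) X)
    (x : Points X) : ∃ (U : Over S) (a : (yon S).obj U ⟶ X), RepWith @Etale a ∧ IsAffine U.left ∧
      IsIntegral U.left ∧ IsIntegrallyClosed ↥Γ(U.left, ⊤) ∧ x ∈ Set.range (Points.ofPt a) := by
  obtain ⟨U, a, u, hU, ha, rfl, -⟩ := SpQS.exists_affine_chart_at hX x
  obtain ⟨_, _⟩ := SpQS.t0_sober_of_decent hX hd
  have hg := SpQS.goodAt_of_isDecent hX hd
  have hfin : (irreducibleComponents ↥U.left).Finite := by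
    rw [SpQS.finite_components_iff]
    haveI := hU
    refine ((hg (genericPoint (Points X))).finite hX ha).subset fun w hw => ?_
    exact ((SpQS.isMaxPt_ofPt_iff hX hg ha w).2 hw _
      ((genericPoint_spec (Points X)).specializes (Set.mem_univ _))).symm
  have hnorm := fun w : U.left => normal_chart hX hn ha w
  haveI : ∀ w : U.left, IsDomain (U.left.presheaf.stalk w) := fun w => (hnorm w).1
  haveI : IsReduced U.left :=
    have : ∀ w : U.left, _root_.IsReduced (U.left.presheaf.stalk w) := fun w => inferInstance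
    isReduced_of_isReduced_stalk _
  let C := irreducibleComponent u
  obtain ⟨O, hO, hOaff, huO⟩ : ∃ O : U.left.Opens, (O : Set U.left) ⊆ C ∧ IsAffineOpen O ∧ u ∈ O := by
    let bad : Set U.left := ⋃₀ {Z ∈ irreducibleComponents ↥U.left | Z ≠ C}
    have hbad : IsClosed bad := by
      rw [show bad = ⋃ Z ∈ {Z ∈ irreducibleComponents ↥U.left | Z ≠ C}, Z from Set.sUnion_eq_biUnion]
      exact (hfin.subset fun Z h => h.1).isClosed_biUnion fun Z h => isClosed_of_mem_irreducibleComponents Z h.1
    have hdisj := (Groth.Agent.CompLib.pairwiseDisjoint_iff U.left).2 fun w => by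
      rw [nilradical_eq_zero]; exact Ideal.isPrime_bot
    have hu : u ∉ bad := fun ⟨Z, ⟨hZ, hne⟩, huZ⟩ => Set.disjoint_left.1
      (hdisj hZ (irreducibleComponent_mem_irreducibleComponents u) hne) huZ mem_irreducibleComponent
    obtain ⟨_, ⟨O, hO, rfl⟩, huO, hOW⟩ := U.left.isBasis_affineOpens.exists_subset_of_mem_open hu hbad.isOpen_compl
    refine ⟨O, fun w hw => ?_, hO, huO⟩
    by_contra hc
    exact hOW hw ⟨irreducibleComponent w, ⟨irreducibleComponent_mem_irreducibleComponents w,
      fun e => hc (e ▸ mem_irreducibleComponent)⟩, mem_irreducibleComponent⟩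
  let V : Over S := Over.mk (O.ι ≫ U.hom)
  let j : V ⟶ U := Over.homMk O.ι rfl
  haveI : Nonempty O := ⟨⟨u, huO⟩⟩
  haveI : IsAffine V.left := hOaff
  have hC : IsIrreducible C := (irreducibleComponent_mem_irreducibleComponents u).1
  haveI : IrreducibleSpace O.toScheme := Subtype.irreducibleSpace
    (⟨⟨u, huO⟩, fun v w hv hw ⟨y, hyO, hyv⟩ ⟨z, hzO, hzw⟩ => by
      obtain ⟨t, -, ⟨htO, htv⟩, -, htw⟩ := hC.2 _ _ (O.2.inter hv) (O.2.inter hw)
        ⟨y, hO hyO, hyO, hyv⟩ ⟨z, hO hzO, hzO, hzw⟩
      exact ⟨t, htO, htv, htw⟩⟩ : IsIrreducible (O : Set U.left))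
  haveI : IsIntegral O.toScheme := isIntegral_of_irreducibleSpace_of_isReduced _
  haveI : IsIntegral V.left := ‹IsIntegral O.toScheme›
  haveI : Nonempty ((⊤ : V.left.Opens) : Scheme.{u}) := ⟨⟨⟨u, huO⟩, trivial⟩⟩
  refine ⟨V, (yon S).map j ≫ a, repWith_comp ((repWith_yon_iff j).2 (inferInstance : Etale O.ι)) ha,
    inferInstance, inferInstance,
    NormSect.isIntegrallyClosed_sections ⊤ fun z _ => (normal_chart hX hn
      (repWith_comp ((repWith_yon_iff j).2 (inferInstance : Etale O.ι)) ha) z).2, ?_⟩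
  exact ⟨(⟨u, huO⟩ : O.toScheme), by rw [ofPt_comp]; rfl⟩

end Groth.Agent.GsectLib

end
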