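import Groth.Agent.GsectLib.Domain
import Groth.Agent.AlgSpLib.QCompact
import Groth.Agent.AlgSpLib.ProperRange
import Groth.Agent.EtaleLocalProps.Basic
import Mathlib.Algebra.Polynomial.Reverse

/-!
# Global functions on universally closed spaces over affine schemes are integral
-/

set_option autoImplicit false
set_option backward.isDefEq.respectTransparency false
universe u

open CategoryTheory CategoryTheory.Limits AlgebraicGeometry Opposite

noncomputable section

namespace Groth.Agent.GsectLib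

open _root_.AlgSp Groth.Agent.AlgSpLib

theorem appTop_eq_zero_of_surjective_etale {W Z : Scheme.{u}} (g : W ⟶ Z) [Etale g] [Surjective g]
    {a : Γ(Z, ⊤)} (h : g.appTop a = 0) : a = 0 := by
  refine TopCat.Presheaf.section_ext Z.sheaf ⊤ a 0 fun z _ => ?_
  show Z.presheaf.germ ⊤ z trivial a = Z.presheaf.germ ⊤ z trivial 0
  obtain ⟨w, rfl⟩ := g.surjective z
  letI := (g.stalkMap w).hom.toAlgebra
  haveI := EtaleLocalProps.faithfullyFlat_stalkMap g w
  refine FaithfulSMul.algebraMap_injective (Z.presheaf.stalk (g w)) (W.presheaf.stalk w) ?_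
  show g.stalkMap w _ = g.stalkMap w _
  rw [Scheme.Hom.germ_stalkMap_apply, Scheme.Hom.germ_stalkMap_apply, map_zero]
  exact (congrArg (fun t => W.presheaf.germ ⊤ w trivial t) h)

theorem isoSpec_inv_appTop (U : Scheme.{u}) [IsAffine U] :
    U.isoSpec.inv.appTop = (Scheme.ΓSpecIso Γ(U, ⊤)).inv := by
  rw [← cancel_mono U.isoSpec.hom.appTop, ← Scheme.Hom.comp_appTop, Iso.hom_inv_id,
    show U.isoSpec.hom.appTop = (Scheme.ΓSpecIso Γ(U, ⊤)).hom from Scheme.toSpecΓ_appTop _, Iso.inv_hom_id]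
  rfl

theorem exists_monic_of_polynomial {A R : Type u} [CommRing A] [CommRing R] (φ : A →+* R) (σ : R)
    (Q : Polynomial A) (hQ : Q.coeff 0 = 1)
    (h : ∀ (L : Type u) [CommRing L] (ψ : R →+* L) (τ : L), ψ σ * τ = 1 → IsNilpotent (Q.eval₂ (ψ.comp φ) τ)) :
    ∃ p : Polynomial A, p.Monic ∧ p.eval₂ φ σ = 0 := by
  let L := Localization.Away σ
  let ψ := algebraMap R L
  have hu : IsUnit (ψ σ) := IsLocalization.Away.algebraMap_isUnit σ
  obtain ⟨N, hN⟩ := h L ψ hu.unit.inv (hu.unit.val_inv)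
  let Q' := Q ^ N
  have hQ' : Q'.coeff 0 = 1 := by rw [Polynomial.coeff_zero_eq_eval_zero, Polynomial.eval_pow,
    ← Polynomial.coeff_zero_eq_eval_zero, hQ, one_pow]
  have hrm : Q'.reverse.Monic := by
    rcases subsingleton_or_nontrivial A with hA | hA
    · exact Polynomial.monic_of_subsingleton _
    · show Q'.reverse.leadingCoeff = 1
      rw [Polynomial.reverse_leadingCoeff, Polynomial.trailingCoeff,
        show Q'.natTrailingDegree = 0 from
          Nat.eq_zero_of_le_zero (Polynomial.natTrailingDegree_le_of_ne_zero (by rw [hQ']; exact one_ne_zero)), hQ']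
  letI : Invertible (hu.unit.inv) := ⟨ψ σ, hu.unit.val_inv, hu.unit.inv_val⟩
  have h0 : Q'.reverse.eval₂ (ψ.comp φ) (ψ σ) = 0 := by
    refine (Polynomial.eval₂_reverse_eq_zero_iff (ψ.comp φ) hu.unit.inv Q').2 ?_
    rw [Polynomial.eval₂_pow]
    exact hN
  rw [← Polynomial.hom_eval₂] at h0
  obtain ⟨⟨_, e, rfl⟩, he⟩ := (IsLocalization.map_eq_zero_iff (Submonoid.powers σ) L _).1 h0
  refine ⟨Polynomial.X ^ e * Q'.reverse, (Polynomial.monic_X_pow e).mul hrm, ?_⟩
  rw [Polynomial.eval₂_mul, Polynomial.eval₂_X_pow]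
  exact he

variable {S : Scheme.{u}}

theorem exists_monic_of_univClosed (V : Over S) [IsAffine V.left] (X : AlgSp.Space S)
    (f : X ⟶ (AlgSp.ofScheme S).obj V) (hqc : IsQuasiCompactMor f.hom) (huc : IsUnivClosedMor f.hom)
    (s : ↥(gsectEt (OEt X.obj) : CommRingCat.{u + 1})) :
    ∃ p : Polynomial Γ(V.left, ⊤), p.Monic ∧
      ∀ E : EtOver X.obj,
        Polynomial.eval₂ ((yon S).preimage (E.obj.hom ≫ f.hom)).left.appTop.hom (sec s E) p = 0 := by
  have hVq : IsQuasiCompactSp ((yon S).obj V) :=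
    ⟨V, 𝟙 _, repWith_id @Etale V, repWith_id @Surjective V, inferInstance⟩
  haveI : CompactSpace (Points X.obj) := compactSpace_of_isQuasiCompactSp
    (hqc (IsAlgSpace.yon_obj V) hVq (𝟙 _) (𝟙 _) f.hom (IsPullback.id_horiz _))
  obtain ⟨U, a, hU, hae, has⟩ := exists_affine_chart_of_compact X.property
  obtain ⟨g, hg⟩ := exists_map_eq (a ≫ f.hom)
  obtain ⟨R, t₁, t₂, sqR⟩ := exists_pullback X.property.diag a a
  let EU : EtOver X.obj := EtOver.mk a hae
  let ER : EtOver X.obj := EtOver.mk ((yon S).map t₁ ≫ a) (repWith_comp (repWith_baseChange sqR.flip hae) hae)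
  let σ : Γ(U.left, ⊤) := sec s EU
  have hσ : t₁.left.appTop σ = t₂.left.appTop σ :=
    (sec_map s (EtOver.homMk t₁ rfl : ER ⟶ EU)).trans (sec_map s (EtOver.homMk t₂ sqR.w.symm : ER ⟶ EU)).symm
  -- the affine line over `V`
  let A := Γ(V.left, ⊤)
  let AX : CommRingCat.{u} := CommRingCat.of (Polynomial A)
  let π : Spec AX ⟶ V.left := Spec.map (CommRingCat.ofHom (Polynomial.C : A →+* Polynomial A)) ≫ V.left.isoSpec.inv
  let V' : Over S := Over.mk (π ≫ V.hom)
  let πO : V' ⟶ V := Over.homMk π rfl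
  let T : Γ(Spec AX, ⊤) := (Scheme.ΓSpecIso AX).inv Polynomial.X
  let sqP := IsPullback.of_hasPullback f.hom ((yon S).map πO)
  have hP := isAlgSpace_of_isPullback_space (IsAlgSpace.yon_obj V) X.property (IsAlgSpace.yon_obj V') sqP
  let U' : Over S := Over.mk (pullback.fst g.left π ≫ U.hom)
  let u₁ : U' ⟶ U := Over.homMk (pullback.fst g.left π) rfl
  let u₂ : U' ⟶ V' := Over.homMk (pullback.snd g.left π) (by
    show pullback.snd g.left π ≫ π ≫ V.hom = pullback.fst g.left π ≫ U.hom
    rw [← Category.assoc, ← pullback.condition, Category.assoc, Over.w g])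
  have sqU : IsPullback ((yon S).map u₁) ((yon S).map u₂) ((yon S).map g) ((yon S).map πO) :=
    isPullback_yon_iff.2 (IsPullback.of_hasPullback g.left π)
  let a' : (yon S).obj U' ⟶ pullback f.hom ((yon S).map πO) :=
    sqP.lift ((yon S).map u₁ ≫ a) ((yon S).map u₂) (by rw [Category.assoc, ← hg]; exact sqU.w)
  have sqA : IsPullback ((yon S).map u₁) a' a (pullback.fst f.hom ((yon S).map πO)) :=
    IsPullback.of_bot (by rw [sqP.lift_snd, ← hg]; exact sqU) (sqP.lift_fst _ _ _).symm sqP
  have ha'e : RepWith @Etale a' := repWith_baseChange sqA hae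
  have ha's : RepWith @Surjective a' := repWith_baseChange sqA has
  let z : Γ(U'.left, ⊤) := u₁.left.appTop σ * u₂.left.appTop T - 1
  have hinv : ∀ ω ω' : U'.left, Points.ofPt a' ω = Points.ofPt a' ω' →
      ω ∈ U'.left.basicOpen z → ω' ∈ U'.left.basicOpen z := by
    intro ω ω' e hω
    obtain ⟨R', r₁, r₂, sqR'⟩ := exists_pullback hP.diag a' a'
    obtain ⟨ρ, rfl, rfl⟩ := (ofPt_eq_iff sqR' ω ω').1 e
    obtain ⟨m, hm⟩ := exists_map_eq (sqR.lift ((yon S).map (r₁ ≫ u₁)) ((yon S).map (r₂ ≫ u₁)) (by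
      rw [Functor.map_comp, Functor.map_comp, Category.assoc, Category.assoc, sqA.w, reassoc_of% sqR'.w]))
    have hm1 : m ≫ t₁ = r₁ ≫ u₁ := (yon S).map_injective (by rw [Functor.map_comp, hm, sqR.lift_fst])
    have hm2 : m ≫ t₂ = r₂ ≫ u₁ := (yon S).map_injective (by rw [Functor.map_comp, hm, sqR.lift_snd])
    have hT2 : r₁ ≫ u₂ = r₂ ≫ u₂ := (yon S).map_injective (by
      have := congrArg (· ≫ pullback.snd f.hom ((yon S).map πO)) sqR'.w
      simp only [Category.assoc] at this
      rw [sqP.lift_snd] at this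
      rw [Functor.map_comp, Functor.map_comp]
      exact this)
    have hz : r₁.left.appTop z = r₂.left.appTop z := by
      have e1 : r₁.left.appTop (u₁.left.appTop σ) = r₂.left.appTop (u₁.left.appTop σ) := by
        rw [← CommRingCat.comp_apply, ← CommRingCat.comp_apply, ← Scheme.Hom.comp_appTop, ← Scheme.Hom.comp_appTop,
          ← Over.comp_left, ← Over.comp_left, ← hm1, ← hm2, Over.comp_left, Over.comp_left,
          Scheme.Hom.comp_appTop, Scheme.Hom.comp_appTop, CommRingCat.comp_apply, CommRingCat.comp_apply, hσ]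
      have e2 : r₁.left.appTop (u₂.left.appTop T) = r₂.left.appTop (u₂.left.appTop T) := by
        rw [← CommRingCat.comp_apply, ← CommRingCat.comp_apply, ← Scheme.Hom.comp_appTop, ← Scheme.Hom.comp_appTop,
          ← Over.comp_left, ← Over.comp_left, hT2]
      simp only [z, map_sub, map_mul, map_one, e1, e2]
    have h1 : ρ ∈ R'.left.basicOpen (r₁.left.appTop z) := (Scheme.preimage_basicOpen_top r₁.left z).le hω
    rw [hz] at h1
    exact (Scheme.preimage_basicOpen_top r₂.left z).ge h1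
  let O : Set (Points (pullback f.hom ((yon S).map πO))) := Points.ofPt a' '' (U'.left.basicOpen z : Set U'.left)
  have hO : IsOpen O := isOpenMap_ofPt (repWith_universallyOpen_of_etale ha'e) _ (U'.left.basicOpen z).2
  have hclosed := huc (IsAlgSpace.yon_obj V') ((yon S).map πO) _ _ sqP _ hO.isClosed_compl
  let 𝒯 : Set ↥(Spec AX) := u₂.left '' {ω | ω ∉ U'.left.basicOpen z}
  have h𝒯 : IsClosed 𝒯 := by
    have : 𝒯 = Points.ofScheme V' ⁻¹' (Points.map (pullback.snd f.hom ((yon S).map πO)) '' Oᶜ) := by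
      ext v
      constructor
      · rintro ⟨ω, hω, rfl⟩
        refine ⟨Points.ofPt a' ω, fun ⟨ω', hω', e⟩ => hω (hinv ω' ω e hω'), ?_⟩
        rw [Points.map_ofPt, sqP.lift_snd, ofScheme_map]
      · rintro ⟨x, hx, e⟩
        obtain ⟨ω, rfl⟩ := ofPt_surjective ha's x
        refine ⟨ω, fun hω => hx ⟨ω, hω, rfl⟩, ?_⟩
        rw [Points.map_ofPt, sqP.lift_snd, ofScheme_map] at e
        exact (Points.schemeEquiv V').injective e
    rw [this]
    exact hclosed.preimage (Points.continuous_ofPt _)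
  -- separate from `T = 0`
  let Z : Set (PrimeSpectrum (Polynomial A)) := 𝒯
  let K : Ideal (Polynomial A) := PrimeSpectrum.vanishingIdeal Z
  have hK : K ⊔ Ideal.span {Polynomial.X} = ⊤ := by
    by_contra hne
    obtain ⟨M, hM, hle⟩ := Ideal.exists_le_maximal _ hne
    haveI := hM.isPrime
    let pt : PrimeSpectrum (Polynomial A) := ⟨M, hM.isPrime⟩
    have h1 : pt ∈ Z := by
      have : pt ∈ PrimeSpectrum.zeroLocus (K : Set (Polynomial A)) := fun y hy => hle (Ideal.mem_sup_left hy)
      rwa [PrimeSpectrum.zeroLocus_vanishingIdeal_eq_closure, IsClosed.closure_eq (show IsClosed Z from h𝒯)] at this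
    obtain ⟨ω, hω, hωe⟩ := h1
    refine hω ?_
    have hT : u₂.left ω ∉ (Spec AX).basicOpen T := by
      rw [hωe]
      show pt ∉ (Spec AX).basicOpen T
      rw [basicOpen_eq_of_affine]
      exact fun h => h (hle (Ideal.mem_sup_right (Ideal.mem_span_singleton_self _)))
    have hT' : ω ∉ U'.left.basicOpen (u₁.left.appTop σ * u₂.left.appTop T) := fun h => hT (by
      rw [Scheme.basicOpen_mul] at h
      exact (Scheme.preimage_basicOpen_top u₂.left T).ge h.2)
    rw [Scheme.mem_basicOpen _ _ _ (show ω ∈ (⊤ : U'.left.Opens) from trivial)] at hT' ⊢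
    rw [map_sub, map_one]
    rw [← mem_nonunits_iff, ← IsLocalRing.mem_maximalIdeal] at hT'
    by_contra hnu
    rw [← mem_nonunits_iff, ← IsLocalRing.mem_maximalIdeal] at hnu
    refine (IsLocalRing.maximalIdeal.isMaximal (U'.left.presheaf.stalk ω)).ne_top ((Ideal.eq_top_iff_one _).2 ?_)
    have := Ideal.sub_mem _ hT' hnu
    rwa [sub_sub_cancel] at this
  obtain ⟨Q, hQK, hQ0⟩ : ∃ Q ∈ K, Q.coeff 0 = 1 := by
    obtain ⟨Q, hQ, y, hy, e⟩ := Submodule.mem_sup.1 ((Ideal.eq_top_iff_one _).1 hK)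
    obtain ⟨c, rfl⟩ := Ideal.mem_span_singleton'.1 hy
    refine ⟨Q, hQ, ?_⟩
    have := congrArg (fun q => Polynomial.coeff q 0) e
    simpa using this
  obtain ⟨p, hp, hp0⟩ := exists_monic_of_polynomial g.left.appTop.hom σ Q hQ0 (by
    intro L _ ψ τ hτ
    let c₁ : Spec (CommRingCat.of L) ⟶ U.left := Spec.map (CommRingCat.ofHom ψ) ≫ U.left.isoSpec.inv
    let c₂ : Spec (CommRingCat.of L) ⟶ Spec AX :=
      Spec.map (CommRingCat.ofHom (Polynomial.eval₂RingHom (ψ.comp g.left.appTop.hom) τ))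
    have hc : c₁ ≫ g.left = c₂ ≫ π := by
      have e : CommRingCat.ofHom (Polynomial.C : A →+* Polynomial A) ≫
          CommRingCat.ofHom (Polynomial.eval₂RingHom (ψ.comp g.left.appTop.hom) τ) =
          g.left.appTop ≫ CommRingCat.ofHom ψ := by
        ext x
        exact Polynomial.eval₂_C _ _
      simp only [c₁, c₂, π, ← Category.assoc, ← Spec.map_comp]
      rw [e, Spec.map_comp, Category.assoc, Category.assoc, Scheme.isoSpec_inv_naturality]
    let c : Spec (CommRingCat.of L) ⟶ U'.left := pullback.lift c₁ c₂ hc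
    have hzero : c.appTop z = 0 := by
      have e1 : c.appTop (u₁.left.appTop σ) = (Scheme.ΓSpecIso (CommRingCat.of L)).inv (ψ σ) := by
        rw [← CommRingCat.comp_apply, ← Scheme.Hom.comp_appTop,
          show c ≫ u₁.left = c₁ from pullback.lift_fst _ _ _]
        simp only [c₁, Scheme.Hom.comp_appTop, CommRingCat.comp_apply]
        refine (congrArg (fun t => (Spec.map (CommRingCat.ofHom ψ)).appTop t)
          (ConcreteCategory.congr_hom (Groth.Agent.GsectLib.isoSpec_inv_appTop U.left) σ)).trans ?_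
        exact (ConcreteCategory.congr_hom (Scheme.ΓSpecIso_inv_naturality (CommRingCat.ofHom ψ)) σ).symm
      have e2 : c.appTop (u₂.left.appTop T) = (Scheme.ΓSpecIso (CommRingCat.of L)).inv τ := by
        rw [← CommRingCat.comp_apply, ← Scheme.Hom.comp_appTop,
          show c ≫ u₂.left = c₂ from pullback.lift_snd _ _ _]
        refine (ConcreteCategory.congr_hom (Scheme.ΓSpecIso_inv_naturality
          (CommRingCat.ofHom (Polynomial.eval₂RingHom (ψ.comp g.left.appTop.hom) τ))) Polynomial.X).symm.trans ?_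
        exact congrArg (Scheme.ΓSpecIso (CommRingCat.of L)).inv (Polynomial.eval₂_X _ _)
      rw [map_sub, map_mul, e1, e2, ← map_mul, hτ, map_one, map_one, sub_self]
    rw [← mem_nilradical, nilradical_eq_sInf]
    refine Ideal.mem_sInf.2 fun {J} hJ => ?_
    let y : Spec (CommRingCat.of L) := (⟨J, hJ⟩ : PrimeSpectrum L)
    have hy : c y ∉ U'.left.basicOpen z := fun h => by
      have := (Scheme.preimage_basicOpen_top c z).le h
      rw [hzero, Scheme.basicOpen_zero] at this
      exact this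
    have hmem : u₂.left (c y) ∈ 𝒯 := ⟨c y, hy, rfl⟩
    have e : u₂.left (c y) = c₂ y := by
      exact congrArg (fun m : Spec (CommRingCat.of L) ⟶ Spec AX => m y) (pullback.lift_snd c₁ c₂ hc)
    have := (PrimeSpectrum.mem_vanishingIdeal _ _).1 hQK _ (e ▸ hmem)
    exact this)
  refine ⟨p, hp, fun E => ?_⟩
  obtain ⟨W, w₁, w₂, sqW⟩ := exists_pullback X.property.diag E.obj.hom a
  haveI : Etale w₁.left := (repWith_yon_iff w₁).1 (repWith_baseChange sqW.flip hae)
  haveI : Surjective w₁.left := (repWith_yon_iff w₁).1 (repWith_baseChange sqW.flip has)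
  refine appTop_eq_zero_of_surjective_etale w₁.left ?_
  let EW : EtOver X.obj := EtOver.mk ((yon S).map w₂ ≫ a) (repWith_comp (repWith_baseChange sqW E.property) hae)
  have e1 : w₁.left.appTop (sec s E) = w₂.left.appTop σ :=
    (sec_map s (EtOver.homMk w₁ sqW.w : EW ⟶ E)).trans (sec_map s (EtOver.homMk w₂ rfl : EW ⟶ EU)).symm
  have e2 : w₁ ≫ (yon S).preimage (E.obj.hom ≫ f.hom) = w₂ ≫ g := (yon S).map_injective (by
    rw [Functor.map_comp, Functor.map_preimage, Functor.map_comp, hg, reassoc_of% sqW.w])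
  have e3 : w₁.left.appTop.hom.comp ((yon S).preimage (E.obj.hom ≫ f.hom)).left.appTop.hom =
      w₂.left.appTop.hom.comp g.left.appTop.hom := by
    rw [← CommRingCat.hom_comp, ← CommRingCat.hom_comp, ← Scheme.Hom.comp_appTop, ← Scheme.Hom.comp_appTop,
      ← Over.comp_left, ← Over.comp_left, e2]
  show w₁.left.appTop.hom _ = 0
  rw [Polynomial.hom_eval₂, e3]
  refine (congrArg (fun y => Polynomial.eval₂ _ y p) e1).trans ?_
  exact (Polynomial.hom_eval₂ p g.left.appTop.hom w₂.left.appTop.hom σ).symm.trans (by rw [hp0, map_zero])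

end Groth.Agent.GsectLib

end
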